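/-
The split extension of the Heisenberg group of order 27 by SL(2,3).
-/
import Mathlib

set_option autoImplicit false

namespace Cfsg.Agent.HeisSLThree

abbrev K := ZMod 3
abbrev SL₂ := Matrix.SpecialLinearGroup (Fin 2) K

/-- The alternating form. -/
def om (v w : Fin 2 → K) : K := v 0 * w 1 - v 1 * w 0

/-- The Heisenberg group. -/
@[ext] structure Hs where
  vec : Fin 2 → K
  cen : K
deriving DecidableEq

instance : Mul Hs := ⟨fun x y => ⟨x.vec + y.vec, x.cen + y.cen - om x.vec y.vec⟩⟩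
instance : One Hs := ⟨⟨0, 0⟩⟩
instance : Inv Hs := ⟨fun x => ⟨-x.vec, -x.cen⟩⟩

theorem mul_vec (x y : Hs) : (x * y).vec = x.vec + y.vec := rfl
theorem mul_cen (x y : Hs) : (x * y).cen = x.cen + y.cen - om x.vec y.vec := rfl
theorem one_vec : (1 : Hs).vec = 0 := rfl
theorem one_cen : (1 : Hs).cen = 0 := rfl
theorem inv_vec (x : Hs) : x⁻¹.vec = -x.vec := rfl
theorem inv_cen (x : Hs) : x⁻¹.cen = -x.cen := rfl

instance : Group Hs where
  mul_assoc a b c := by ext <;> simp [mul_vec, mul_cen, om] <;> ring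
  one_mul a := by ext <;> simp [mul_vec, mul_cen, one_vec, one_cen, om]
  mul_one a := by ext <;> simp [mul_vec, mul_cen, one_vec, one_cen, om]
  inv_mul_cancel a := by ext <;> simp [mul_vec, mul_cen, one_vec, one_cen, inv_vec, inv_cen, om] <;> ring

/-- As a set. -/
def Hs.equivProd : Hs ≃ (Fin 2 → K) × K where
  toFun x := (x.vec, x.cen)
  invFun p := ⟨p.1, p.2⟩
  left_inv _ := rfl
  right_inv _ := rfl

instance : Finite Hs := Finite.of_equiv _ Hs.equivProd.symm

theorem card_hs : Nat.card Hs = 27 := by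
  rw [Nat.card_congr Hs.equivProd, Nat.card_prod, Nat.card_fun, Nat.card_zmod]; simp

theorem om_mulVec (g : Matrix (Fin 2) (Fin 2) K) (v w : Fin 2 → K) :
    om (g.mulVec v) (g.mulVec w) = g.det * om v w := by
  simp [om, Matrix.mulVec, dotProduct, Fin.sum_univ_two, Matrix.det_fin_two]; ring

/-- The action of SL(2,3). -/
def act : SL₂ →* MulAut Hs where
  toFun g :=
    { toFun := fun x => ⟨g.1.mulVec x.vec, x.cen⟩
      invFun := fun x => ⟨(g⁻¹ : SL₂).1.mulVec x.vec, x.cen⟩
      left_inv := fun x => Hs.ext (by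
        show (g⁻¹ : SL₂).1.mulVec (g.1.mulVec x.vec) = x.vec
        rw [Matrix.mulVec_mulVec, ← Matrix.SpecialLinearGroup.coe_mul, inv_mul_cancel]; simp) rfl
      right_inv := fun x => Hs.ext (by
        show g.1.mulVec ((g⁻¹ : SL₂).1.mulVec x.vec) = x.vec
        rw [Matrix.mulVec_mulVec, ← Matrix.SpecialLinearGroup.coe_mul, mul_inv_cancel]; simp) rfl
      map_mul' := fun x y => Hs.ext (show g.1.mulVec (x.vec + y.vec) = g.1.mulVec x.vec + g.1.mulVec y.vec from Matrix.mulVec_add g.1 x.vec y.vec) (by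
        show x.cen + y.cen - om x.vec y.vec = x.cen + y.cen - om (g.1.mulVec x.vec) (g.1.mulVec y.vec)
        rw [om_mulVec, g.2, one_mul]) }
  map_one' := MulEquiv.ext fun x => Hs.ext (by simp) rfl
  map_mul' g h := MulEquiv.ext fun x => Hs.ext (by
    show (g * h).1.mulVec x.vec = g.1.mulVec (h.1.mulVec x.vec)
    rw [Matrix.mulVec_mulVec, Matrix.SpecialLinearGroup.coe_mul]) rfl

theorem act_apply (g : SL₂) (x : Hs) : act g x = ⟨g.1.mulVec x.vec, x.cen⟩ := rfl

/-- The model group. -/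
abbrev Mod := Hs ⋊[act] SL₂

/-- Homomorphisms of the model injective on both factors with disjoint images are injective. -/
theorem lift_injective {G : Type*} [Group G] (f₁ : Hs →* G) (f₂ : SL₂ →* G) (h)
    (hd : ∀ x g, f₁ x * f₂ g = 1 → x = 1 ∧ g = 1) :
    Function.Injective (SemidirectProduct.lift (φ := act) f₁ f₂ h) := by
  rw [injective_iff_map_eq_one]
  intro m hm
  obtain ⟨h1, h2⟩ := hd m.left m.right hm
  exact SemidirectProduct.ext h1 h2

theorem central_mem (t : K) : (SemidirectProduct.inl ⟨0, t⟩ : Mod) ∈ Subgroup.center Mod := by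
  rw [Subgroup.mem_center_iff]
  intro m
  refine SemidirectProduct.ext (Hs.ext ?_ ?_) ?_
  · simp [mul_vec, act_apply, add_comm]
  · simp [mul_cen, act_apply, om, add_comm]
  · simp

end Cfsg.Agent.HeisSLThree
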