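/-
Recognition of the split extension of the Heisenberg group of order 27 by SL(2,3).
-/
import Cfsg.Agent.Lib.HeisSLThree.Model
import Cfsg.Agent.Lib.Classical.TwoByTwo
import Cfsg.Statements.S3366

set_option autoImplicit false

namespace Cfsg.Agent.HeisSLThree

open Matrix

theorem card_sl : Nat.card SL₂ = 24 := by
  rw [TwoByTwo.card_sl_two, Nat.card_zmod]; norm_num

theorem sl_entries (g : SL₂) : g.1 0 0 * g.1 1 1 - g.1 0 1 * g.1 1 0 = 1 := by
  rw [← Matrix.det_fin_two]; exact g.2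

theorem involution_entries : ∀ a b c d : K, a * d - b * c = 1 → a * a + b * c = 1 → a * b + b * d = 0 →
    c * a + d * c = 0 → c * b + d * d = 1 →
    (a = 1 ∧ b = 0 ∧ c = 0 ∧ d = 1) ∨ (a = -1 ∧ b = 0 ∧ c = 0 ∧ d = -1) := by decide

theorem sq_eq_one (g : SL₂) (h : g * g = 1) : g = 1 ∨ g = -1 := by
  have hm : g.1 * g.1 = 1 := by rw [← Matrix.SpecialLinearGroup.coe_mul, h]; simp
  have e : ∀ i j, (g.1 * g.1) i j = (1 : Matrix (Fin 2) (Fin 2) K) i j := fun i j => by rw [hm]
  simp only [Matrix.mul_apply, Fin.sum_univ_two] at e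
  rcases involution_entries _ _ _ _ (sl_entries g) (by simpa using e 0 0) (by simpa using e 0 1)
    (by simpa using e 1 0) (by simpa using e 1 1) with ⟨h1, h2, h3, h4⟩ | ⟨h1, h2, h3, h4⟩
  · exact Or.inl (Subtype.ext (by ext i j; fin_cases i <;> fin_cases j <;> simp [h1, h2, h3, h4]))
  · exact Or.inr (Subtype.ext (by ext i j; fin_cases i <;> fin_cases j <;> simp [h1, h2, h3, h4]))

theorem neg_one_ne : (-1 : SL₂) ≠ 1 := fun h => by
  have := congrArg (fun g : SL₂ => g.1 0 0) h
  simp at this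
  exact absurd this (by decide)

theorem neg_one_central (g : SL₂) : g * (-1) = (-1) * g := Subtype.ext (by simp)

theorem bruhat_entries : ∀ a b c d : K, c ≠ 0 → a * d - b * c = 1 →
    1 + (a - 1) * c * c = a ∧ a * ((d - 1) * c) + (a - 1) * c = b ∧ c * ((d - 1) * c) + 1 = d := by decide

theorem conj_neg_one (g : SL₂) : g * (-1) * g⁻¹ * (-1) = 1 := by
  conv_lhs => arg 1; arg 1; rw [neg_one_central]
  rw [mul_inv_cancel_right]; exact Subtype.ext (by simp)

/-- SL(2,3) is generated by its squares. -/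
theorem top_of_squares (H : Subgroup SL₂) (h : ∀ g : SL₂, g * g ∈ H) : H = ⊤ := by
  let u : K → SL₂ := fun t => ⟨!![1, t; 0, 1], by simp [Matrix.det_fin_two]⟩
  let l : K → SL₂ := fun t => ⟨!![1, 0; t, 1], by simp [Matrix.det_fin_two]⟩
  have h3 : ∀ t : K, t + t + (t + t) = t := by decide
  have hu : ∀ t, u t ∈ H := fun t => by
    have := h (u (t + t))
    convert this using 1
    refine Subtype.ext ?_
    show (u t).1 = (u (t + t)).1 * (u (t + t)).1
    ext i j; fin_cases i <;> fin_cases j <;> simp [u, Matrix.SpecialLinearGroup.coe_mul, Matrix.mul_apply, Fin.sum_univ_two, h3]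
  have hl : ∀ t, l t ∈ H := fun t => by
    have := h (l (t + t))
    convert this using 1
    refine Subtype.ext ?_
    show (l t).1 = (l (t + t)).1 * (l (t + t)).1
    ext i j; fin_cases i <;> fin_cases j <;> simp [l, Matrix.SpecialLinearGroup.coe_mul, Matrix.mul_apply, Fin.sum_univ_two, h3]
  have hne : ∀ g : SL₂, g.1 1 0 ≠ 0 → g ∈ H := by
    intro g hg
    have hd := sl_entries g
    obtain ⟨e1, e2, e3⟩ := bruhat_entries _ _ _ _ hg hd
    have e : g = u ((g.1 0 0 - 1) * g.1 1 0) * l (g.1 1 0) * u ((g.1 1 1 - 1) * g.1 1 0) := by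
      refine Subtype.ext ?_
      show g.1 = (u ((g.1 0 0 - 1) * g.1 1 0)).1 * (l (g.1 1 0)).1 * (u ((g.1 1 1 - 1) * g.1 1 0)).1
      ext i j
      fin_cases i <;> fin_cases j <;>
        simp [u, l, Matrix.SpecialLinearGroup.coe_mul, Matrix.mul_apply, Fin.sum_univ_two, e1, e2, e3]
    rw [e]
    exact H.mul_mem (H.mul_mem (hu _) (hl _)) (hu _)
  rw [eq_top_iff]
  intro g _
  by_cases hg : g.1 1 0 = 0
  · have hd := sl_entries g
    rw [hg, mul_zero, sub_zero] at hd
    have h1 : g.1 1 1 ≠ 0 := fun h0 => by simp [h0] at hd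
    have := hne (g * l 1) (show (g.1 * (l 1).1) 1 0 ≠ 0 by simpa [l, Matrix.SpecialLinearGroup.coe_mul, Matrix.mul_apply, Fin.sum_univ_two, hg] using h1)
    exact (H.mul_mem_cancel_right (hl 1)).1 this
  · exact hne g hg

variable {X : Type*} [Group X]

/-- Exponentiation by residues mod 3. -/
def pw (x : X) (i : K) : X := x ^ i.val

theorem pw_add {x : X} (hx : x ^ 3 = 1) (i j : K) : pw x (i + j) = pw x i * pw x j := by
  rw [pw, pw, pw, ZMod.val_add, ← pow_add]
  exact (pow_eq_pow_mod _ hx).symm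

theorem pw_zero (x : X) : pw x 0 = 1 := by simp [pw]

theorem pw_one (x : X) : pw x 1 = x := by simp [pw, ZMod.val_one]

theorem pw_neg {x : X} (hx : x ^ 3 = 1) (i : K) : pw x (-i) = (pw x i)⁻¹ := by
  refine eq_inv_of_mul_eq_one_left ?_
  rw [← pw_add hx, neg_add_cancel, pw_zero]

theorem comm_pow {a b d : X} (had : Commute a d) (hbd : Commute b d) (h : b * a = a * b * d) (n m : ℕ) :
    b ^ m * a ^ n = a ^ n * b ^ m * d ^ (m * n) := by
  have h1 : ∀ n, b * a ^ n = a ^ n * b * d ^ n := by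
    intro n
    induction n with
    | zero => simp
    | succ n ih =>
      rw [pow_succ a, ← mul_assoc, ih, mul_assoc (a ^ n * b), ← (had.pow_right n).eq, ← mul_assoc,
        mul_assoc (a ^ n), h, pow_succ' d]
      group
  induction m with
  | zero => simp
  | succ m ih =>
    rw [pow_succ b, mul_assoc, h1, ← mul_assoc, ← mul_assoc, ih, mul_assoc _ (d ^ (m * n)),
      ← (hbd.pow_right (m * n)).eq, Nat.succ_mul, pow_add]
    group

theorem exists_hom {a b c : X} (ha : a ^ 3 = 1) (hb : b ^ 3 = 1) (hc : c ^ 3 = 1) (hac : Commute a c)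
    (hbc : Commute b c) (hab : a * b = c * (b * a)) :
    ∃ φ : Hs →* X, ∀ v t, φ ⟨v, t⟩ = pw a (v 0) * pw b (v 1) * pw c (v 0 * v 1 + t) := by
  have hd : b * a = a * b * c⁻¹ := by
    rw [(((hac.mul_left hbc)).inv_right).eq, hab]
    group
  have hmove : ∀ i j : K, pw b j * pw a i = pw a i * pw b j * pw c (-(i * j)) := by
    intro i j
    rw [pw_neg hc, pw, pw, pw, comm_pow hac.inv_right hbc.inv_right hd, inv_pow, ZMod.val_mul,
      ← pow_eq_pow_mod _ hc, mul_comm i.val]
  refine ⟨MonoidHom.mk' (fun x => pw a (x.vec 0) * pw b (x.vec 1) * pw c (x.vec 0 * x.vec 1 + x.cen))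
    (fun x y => ?_), fun v t => rfl⟩
  have hca : ∀ i k : K, Commute (pw c k) (pw a i) := fun i k => ((hac.pow_pow _ _).symm)
  have hcb : ∀ i k : K, Commute (pw c k) (pw b i) := fun i k => ((hbc.pow_pow _ _).symm)
  simp only [mul_vec, mul_cen, Pi.add_apply]
  calc pw a (x.vec 0 + y.vec 0) * pw b (x.vec 1 + y.vec 1) *
        pw c ((x.vec 0 + y.vec 0) * (x.vec 1 + y.vec 1) + (x.cen + y.cen - om x.vec y.vec))
      = pw a (x.vec 0) * pw a (y.vec 0) * (pw b (x.vec 1) * pw b (y.vec 1)) *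
        (pw c (-(y.vec 0 * x.vec 1)) *
          (pw c (x.vec 0 * x.vec 1 + x.cen) * pw c (y.vec 0 * y.vec 1 + y.cen))) := by
        rw [pw_add ha, pw_add hb, ← pw_add hc, ← pw_add hc]
        congr 2
        simp only [om]
        have : ∀ i : K, i + i + i = 0 := by decide
        linear_combination this (y.vec 0 * x.vec 1)
    _ = pw a (x.vec 0) * (pw a (y.vec 0) * pw b (x.vec 1) * pw c (-(y.vec 0 * x.vec 1))) * pw b (y.vec 1) *
          pw c (x.vec 0 * x.vec 1 + x.cen) * pw c (y.vec 0 * y.vec 1 + y.cen) := by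
        simp only [mul_assoc]
        rw [← mul_assoc (pw c (-(y.vec 0 * x.vec 1))) (pw b (y.vec 1)), (hcb _ _).eq]
        simp only [mul_assoc]
    _ = pw a (x.vec 0) * pw b (x.vec 1) * (pw c (x.vec 0 * x.vec 1 + x.cen) * (pw a (y.vec 0) *
          pw b (y.vec 1))) * pw c (y.vec 0 * y.vec 1 + y.cen) := by
        rw [← hmove, ((hca _ _).mul_right (hcb _ _)).eq]
        simp only [mul_assoc]
    _ = _ := by simp only [mul_assoc]

variable [Finite X]

theorem exists_equiv (hR : Cfsg.IsExtraspecial 3 (Cfsg.pCore 3 X)) (hRcard : Nat.card (Cfsg.pCore 3 X) = 27)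
    (hRexp : ∀ r ∈ Cfsg.pCore 3 X, r ^ 3 = 1)
    (e : X ⧸ Cfsg.pCore 3 X ≃* SL₂) (hO2 : Cfsg.pCore 2 X = ⊥)
    (hE : ∃ E : Subgroup X, IsMulCommutative E ∧ (∀ a ∈ E, a ^ 3 = 1) ∧ Nat.card E = 27) :
    Nonempty (Mod ≃* X) := by
  classical
  set R := Cfsg.pCore 3 X with hRdef
  let π : X →* SL₂ := e.toMonoidHom.comp (QuotientGroup.mk' R)
  have hπ : Function.Surjective π := e.surjective.comp (QuotientGroup.mk'_surjective R)
  have hker : ∀ x, π x = 1 ↔ x ∈ R := fun x => by
    show e (x : X ⧸ R) = 1 ↔ _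
    rw [← QuotientGroup.eq_one_iff]; exact e.map_eq_one_iff
  have hcardX : Nat.card X = 648 := by
    rw [Subgroup.card_eq_card_quotient_mul_card_subgroup R, Nat.card_congr e.toEquiv, card_sl, hRcard]
  -- the involution
  obtain ⟨z, hz2, hπz⟩ : ∃ z : X, z * z = 1 ∧ π z = -1 := by
    obtain ⟨y, hy⟩ := hπ (-1)
    have h2 : y * y ∈ R := (hker _).1 (by rw [map_mul, hy]; exact Subtype.ext (by simp))
    refine ⟨y ^ 3, ?_, ?_⟩
    · have := hRexp _ h2
      rw [← this, ← pow_two y, ← pow_mul, ← pow_add]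
    · rw [map_pow, hy]; exact Subtype.ext (by simp [pow_succ])
  have hzR : z ∉ R := fun h => neg_one_ne (hπz ▸ (hker z).2 h)
  have hzinv : z⁻¹ = z := inv_eq_of_mul_eq_one_right hz2
  -- the centre of R
  let Z : Subgroup X := (Subgroup.center ↥R).map R.subtype
  have hZR : Z ≤ R := Subgroup.map_subtype_le _
  have hZc : ∀ c ∈ Z, ∀ r ∈ R, r * c = c * r := by
    rintro _ ⟨c, hc, rfl⟩ r hr
    exact congrArg Subtype.val (Subgroup.mem_center_iff.1 hc ⟨r, hr⟩)
  have hZcard : Nat.card Z = 3 := by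
    rw [Subgroup.card_map_of_injective R.subtype_injective, hR.2]
  have hcommZ : ∀ r ∈ R, ∀ s ∈ R, r * s * r⁻¹ * s⁻¹ ∈ Z := by
    intro r hr s hs
    refine ⟨(⟨r, hr⟩ : R) * ⟨s, hs⟩ * (⟨r, hr⟩ : R)⁻¹ * (⟨s, hs⟩ : R)⁻¹, ?_, rfl⟩
    rw [← hR.1.2.2, ← commutatorElement_def]
    exact Subgroup.commutator_mem_commutator (Subgroup.mem_top _) (Subgroup.mem_top _)
  have hRn : ∀ r ∈ R, ∀ x, x * r * x⁻¹ ∈ R := fun r hr x =>
    (inferInstance : R.Normal).conj_mem r hr x
  have hZn : ∀ c ∈ Z, ∀ x, x * c * x⁻¹ ∈ Z := by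
    rintro _ ⟨c, hc, rfl⟩ x
    refine ⟨⟨x * c * x⁻¹, hRn c c.2 x⟩, Subgroup.mem_center_iff.2 fun r => Subtype.ext ?_, rfl⟩
    show (r : X) * (x * c * x⁻¹) = x * c * x⁻¹ * r
    have := congrArg Subtype.val (Subgroup.mem_center_iff.1 hc ⟨x⁻¹ * r * x, by simpa using hRn r r.2 x⁻¹⟩)
    simp only [Subgroup.coe_mul] at this
    calc (r : X) * (x * c * x⁻¹) = x * (x⁻¹ * r * x * c) * x⁻¹ := by group
      _ = x * (c * (x⁻¹ * r * x)) * x⁻¹ := by rw [this]
      _ = _ := by group
  have hZ3 : ∀ c ∈ Z, c ^ 3 = 1 := fun c hc => hRexp c (hZR hc)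
  -- conjugation is trivial on Z
  have hfix : ∀ x c, c ∈ Z → x * c * x⁻¹ = c := by
    have hsq : ∀ y c, c ∈ Z → y * y * c * (y * y)⁻¹ = c := by
      intro y c hc
      rcases eq_or_ne c 1 with rfl | hc1
      · simp
      have ho : orderOf c = 3 := orderOf_eq_prime (hZ3 c hc) hc1
      have hzc : Subgroup.zpowers c = Z := Subgroup.eq_of_le_of_card_ge (Subgroup.zpowers_le.2 hc)
        (by rw [Nat.card_zpowers, ho, hZcard])
      have hex : ∀ d ∈ Z, ∃ i : Fin 3, d = c ^ (i : ℕ) := by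
        intro d hd
        rw [← hzc, mem_zpowers_iff_mem_range_orderOf, ho] at hd
        simp only [Finset.mem_image, Finset.mem_range] at hd
        obtain ⟨i, hi, rfl⟩ := hd
        exact ⟨⟨i, hi⟩, rfl⟩
      obtain ⟨i, hi⟩ := hex _ (hZn c hc y)
      rw [show y * y * c * (y * y)⁻¹ = y * (y * c * y⁻¹) * y⁻¹ by group, hi, ← conj_pow, hi, ← pow_mul]
      have h0 : (i : ℕ) ≠ 0 := fun h0 => hc1 (by simpa [h0] using hi)
      obtain hi' | hi' : (i : ℕ) = 1 ∨ (i : ℕ) = 2 := by omega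
      · rw [hi']; simp
      · rw [hi', show 2 * 2 = 3 + 1 from rfl, pow_succ, hZ3 c hc, one_mul]
    let S : Subgroup X :=
      { carrier := {x | ∀ c ∈ Z, x * c * x⁻¹ = c}
        one_mem' := fun c _ => by simp
        mul_mem' := fun {x y} hx hy c hc => by
          rw [show x * y * c * (x * y)⁻¹ = x * (y * c * y⁻¹) * x⁻¹ by group, hy c hc, hx c hc]
        inv_mem' := fun {x} hx c hc => by
          conv_lhs => rw [← hx c hc]
          group }
    have hS : S.map π = ⊤ := top_of_squares _ fun g => by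
      obtain ⟨y, rfl⟩ := hπ g
      exact ⟨y * y, fun c hc => hsq y c hc, map_mul _ _ _⟩
    intro x c hc
    obtain ⟨s, hs, hsx⟩ : π x ∈ S.map π := by rw [hS]; trivial
    have hr : s⁻¹ * x ∈ R := (hker _).1 (by rw [map_mul, map_inv, hsx, inv_mul_cancel])
    have hrS : s⁻¹ * x ∈ S := fun d hd => by
      rw [hZc d hd _ hr]; group
    have := S.mul_mem hs hrS
    rw [mul_inv_cancel_left] at this
    exact this c hc
  have hZcomm : ∀ x c, c ∈ Z → x * c = c * x := fun x c hc => by
    conv_rhs => rw [← hfix x c hc]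
    group
  -- z does not centralize R
  have hnotcent : ∀ x ∈ R, z * x = x * z → x ∈ Z := by
    have hnc : ¬ ∀ r ∈ R, z * r = r * z := by
      intro hall
      have hn : (Subgroup.zpowers z).Normal := by
        refine ⟨fun w hw g => ?_⟩
        rw [Subgroup.mem_zpowers_iff] at hw
        obtain ⟨i, rfl⟩ := hw
        have hg : g * z * g⁻¹ = z := by
          have hr : g * z * g⁻¹ * z ∈ R := (hker _).1 (by
            rw [map_mul, map_mul, map_mul, map_inv, hπz, conj_neg_one])
          have hcomm : z * (g * z * g⁻¹ * z) = g * z * g⁻¹ * z * z := hall _ hr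
          set w := g * z * g⁻¹ with hw'
          have hw2 : w * w = 1 := by
            rw [hw', show g * z * g⁻¹ * (g * z * g⁻¹) = g * (z * z) * g⁻¹ by group, hz2]; group
          have hwz : z * w = w * z := by
            have := congrArg (· * z) hcomm
            simp only [mul_assoc, hz2, mul_one] at this
            simpa using this
          have h2 : (w * z) * (w * z) = 1 := by
            rw [mul_assoc, ← mul_assoc z, hwz, mul_assoc w z z, hz2, mul_one, hw2]
          have h3 := hRexp _ hr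
          rw [pow_succ, pow_two, h2, one_mul] at h3
          calc w = w * (z * z) := by rw [hz2, mul_one]
            _ = z := by rw [← mul_assoc, h3, one_mul]
        refine Subgroup.mem_zpowers_iff.2 ⟨i, ?_⟩
        rw [← conj_zpow, hg]
      have h2 : IsPGroup 2 (Subgroup.zpowers z) := IsPGroup.of_card (n := 1) (by
        rw [Nat.card_zpowers, pow_one]
        exact orderOf_eq_prime (by rw [pow_two, hz2]) fun h => hzR (h ▸ one_mem _))
      have : Subgroup.zpowers z ≤ Cfsg.pCore 2 X := le_sSup ⟨hn, h2⟩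
      rw [hO2, le_bot_iff, Subgroup.zpowers_eq_bot] at this
      exact hzR (this ▸ one_mem _)
    intro x hx hzx
    by_contra hxZ
    apply hnc
    intro r hr
    -- the commutator with x is fixed, so x⁻¹ r⁻¹ (z r z) commutes with x
    set d := r⁻¹ * (z * r * z⁻¹) with hd
    have hdR : d ∈ R := R.mul_mem (R.inv_mem hr) (hRn r hr z)
    have hdx : x * d = d * x := by
      have hc := hfix z _ (hcommZ r hr x hx)
      rw [show z * (r * x * r⁻¹ * x⁻¹) * z⁻¹ = (z * r * z⁻¹) * (z * x * z⁻¹) * (z * r * z⁻¹)⁻¹ *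
        (z * x * z⁻¹)⁻¹ by group, show z * x * z⁻¹ = x by rw [hzx]; group,
        show z * r * z⁻¹ = r * d by rw [hd]; group] at hc
      have : r * d * x * (r * d)⁻¹ = r * x * r⁻¹ := mul_right_cancel (a := r * d * x * (r * d)⁻¹) hc
      calc x * d = r⁻¹ * (r * x * r⁻¹) * r * d := by group
        _ = r⁻¹ * (r * d * x * (r * d)⁻¹) * r * d := by rw [this]
        _ = d * x := by group
    -- hence d is in the group generated by x and Z, which z centralizes
    have hzd : z * d = d * z := by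
      let M : Subgroup X := R ⊓ Subgroup.centralizer ({x} : Set X)
      have hM : Subgroup.zpowers x ⊔ Z ≤ M := by
        refine sup_le (Subgroup.zpowers_le.2 ⟨hx, Subgroup.mem_centralizer_singleton_iff.2 rfl⟩)
          fun c hc => ⟨hZR hc, Subgroup.mem_centralizer_singleton_iff.2 (hZcomm x c hc).symm⟩
      have hxo : orderOf x = 3 := orderOf_eq_prime (hRexp x hx) fun h => hxZ (h ▸ one_mem _)
      have hMlt : M < R := lt_of_le_of_ne inf_le_left fun hMR => hxZ ⟨⟨x, hx⟩,
        Subgroup.mem_center_iff.2 fun s => Subtype.ext (by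
          have : (s : X) ∈ M := hMR.symm ▸ s.2
          exact Subgroup.mem_centralizer_singleton_iff.1 this.2), rfl⟩
      have hlow : Z < Subgroup.zpowers x ⊔ Z :=
        lt_of_le_of_ne le_sup_right fun h => hxZ (h ▸ Subgroup.mem_sup_left (Subgroup.mem_zpowers x))
      have h27 : (27 : ℕ) = 3 ^ 3 := by norm_num
      have c1 : ∀ {A B : Subgroup X}, A < B → Nat.card A < Nat.card B := fun {A B} h =>
        Nat.lt_of_le_of_ne (Subgroup.card_le_of_le h.le)
          fun hcard => h.ne (Subgroup.eq_of_le_of_card_ge h.le hcard.ge)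
      obtain ⟨i, hi, hi'⟩ := (Nat.dvd_prime_pow Nat.prime_three).1
        (h27 ▸ hRcard ▸ Subgroup.card_dvd_of_le hMlt.le)
      obtain ⟨j, hj, hj'⟩ := (Nat.dvd_prime_pow Nat.prime_three).1
        (h27 ▸ hRcard ▸ Subgroup.card_dvd_of_le (hM.trans hMlt.le))
      have l1 := c1 hMlt
      have l2 := c1 hlow
      rw [hi', hRcard] at l1
      rw [hj', hZcard] at l2
      have hi2 : i ≤ 2 := by
        by_contra hh; have := Nat.pow_le_pow_right (show 0 < 3 by norm_num) (show 3 ≤ i by omega); omega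
      have hj2 : 2 ≤ j := by
        by_contra hh; have := Nat.pow_le_pow_right (show 0 < 3 by norm_num) (show j ≤ 1 by omega); omega
      have heq : Subgroup.zpowers x ⊔ Z = M := Subgroup.eq_of_le_of_card_ge hM (by
        rw [hi', hj']; exact Nat.pow_le_pow_right (by norm_num) (by omega))
      have hdM : d ∈ Subgroup.zpowers x ⊔ Z :=
        heq ▸ (⟨hdR, Subgroup.mem_centralizer_singleton_iff.2 hdx.symm⟩ : d ∈ M)
      have hle : Subgroup.zpowers x ⊔ Z ≤ Subgroup.centralizer ({z} : Set X) :=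
        sup_le (Subgroup.zpowers_le.2 (Subgroup.mem_centralizer_singleton_iff.2 hzx.symm))
          fun c hc => Subgroup.mem_centralizer_singleton_iff.2 (hZcomm z c hc).symm
      exact (Subgroup.mem_centralizer_singleton_iff.1 (hle hdM)).symm
    -- conjugation by z twice
    have h1 : z * r * z⁻¹ = r * d := by rw [hd]; group
    have h2 : r = r * d * d := by
      calc r = z * (z * r * z⁻¹) * z⁻¹ := by
            rw [hzinv]
            calc r = (z * z) * r * (z * z) := by rw [hz2]; group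
              _ = _ := by group
        _ = z * r * z⁻¹ * (z * d * z⁻¹) := by nth_rewrite 1 [h1]; group
        _ = r * d * d := by rw [h1, hzd]; group
    rw [mul_assoc] at h2
    have hd2 : d * d = 1 := (mul_eq_left).1 h2.symm
    have hd1 : d = 1 := by
      have := hRexp d hdR
      rwa [pow_succ, pow_two, hd2, one_mul] at this
    rw [hd1, mul_one] at h1
    calc z * r = z * r * z⁻¹ * z := by group
      _ = r * z := by rw [h1]
  -- inverted elements
  have hxy : ∀ x ∈ R, x * (z * x * z⁻¹) ∈ Z := by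
    intro x hx
    set y := x * (z * x * z⁻¹) with hy
    have hyR : y ∈ R := R.mul_mem hx (hRn x hx z)
    apply hnotcent y hyR
    set k := z * x * z⁻¹ * x * (z * x * z⁻¹)⁻¹ * x⁻¹ with hk
    have hkZ : k ∈ Z := hcommZ _ (hRn x hx z) x hx
    have h1 : z * y * z⁻¹ = k * y := by
      rw [hk, hy, hzinv]
      calc z * (x * (z * x * z)) * z = z * x * z * x * (z * z) := by group
        _ = _ := by rw [hz2]; group
    have h2 : y = k * k * y := by
      calc y = (z * z) * y * (z * z)⁻¹ := by rw [hz2]; group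
        _ = z * (z * y * z⁻¹) * z⁻¹ := by group
        _ = (z * k * z⁻¹) * (z * y * z⁻¹) := by nth_rewrite 1 [h1]; group
        _ = k * k * y := by rw [hfix z k hkZ, h1]; group
    have hk2 : k * k = 1 := mul_eq_right.1 h2.symm
    have hk1 : k = 1 := by
      have := hZ3 k hkZ
      rwa [pow_succ, pow_two, hk2, one_mul] at this
    rw [hk1, one_mul] at h1
    calc z * y = z * y * z⁻¹ * z := by group
      _ = y * z := by rw [h1]
  have hpex : ∀ x ∈ R, ∃ k ∈ Z, z * (x * k) * z⁻¹ = (x * k)⁻¹ := by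
    intro x hx
    refine ⟨_, hxy x hx, ?_⟩
    set k := x * (z * x * z⁻¹) with hk
    have h1 : z * x * z⁻¹ = x⁻¹ * k := by rw [hk]; group
    rw [show z * (x * k) * z⁻¹ = (z * x * z⁻¹) * (z * k * z⁻¹) by group, h1, hfix z k (hxy x hx),
      _root_.mul_inv_rev, mul_assoc, ← hZcomm x⁻¹ k⁻¹ (Z.inv_mem (hxy x hx))]
    congr 1
    refine eq_inv_of_mul_eq_one_left ?_
    rw [← hZ3 k (hxy x hx), pow_succ, pow_two]
  -- an element of order three centralizing z outside R, and one centralized noncentral inverted element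
  obtain ⟨h₀, w, hh₀z, hh₀3, hh₀R, hwR, hwZ, hwinv, hh₀w⟩ : ∃ h₀ w : X, z * h₀ = h₀ * z ∧ h₀ ^ 3 ∈ Z ∧
      h₀ ∉ R ∧ w ∈ R ∧ w ∉ Z ∧ z * w * z⁻¹ = w⁻¹ ∧
      ∃ r ∈ R, w * (h₀ * r) = h₀ * r * w ∧ (h₀ * r) ^ 3 = 1 ∧ h₀ * w * h₀⁻¹ = w ∧ r * w = w * r := by
    obtain ⟨E, hEc, hE3, hEcard⟩ := hE
    have hEne : ¬ E ≤ R := by
      intro hle
      have hER : E = R := Subgroup.eq_of_le_of_card_ge hle (by rw [hEcard, hRcard])
      have : Subgroup.center ↥R = ⊤ := eq_top_iff.2 fun r _ => Subgroup.mem_center_iff.2 fun s => Subtype.ext (by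
        have := congrArg Subtype.val (mul_comm' (⟨(s : X), hER.symm ▸ s.2⟩ : E) ⟨(r : X), hER.symm ▸ r.2⟩)
        exact this)
      have h3 := hR.2
      rw [this, Subgroup.card_top, hRcard] at h3
      omega
    obtain ⟨ε, hεE, hεR⟩ := SetLike.not_le_iff_exists.1 hEne
    -- E ⊓ R is not inside Z
    have hnot : ¬ E ⊓ R ≤ Z := by
      intro hle
      have h1 : Nat.card (E ⊓ R : Subgroup X) ≤ 3 := hZcard ▸ Subgroup.card_le_of_le hle
      have hE' : IsPGroup 3 E := IsPGroup.of_card (n := 3) (by rw [hEcard]; norm_num)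
      have hR' : IsPGroup 3 R := IsPGroup.of_card (n := 3) (by rw [hRcard]; norm_num)
      obtain ⟨n, hn⟩ := IsPGroup.iff_card.1 (hE'.to_sup_of_normal_right hR')
      have hd : Nat.card (E ⊔ R : Subgroup X) ∣ 648 := hcardX ▸ Subgroup.card_subgroup_dvd_card _
      rw [hn] at hd
      have hn4 : n ≤ 4 := by
        by_contra hh
        have : 3 ^ 5 ∣ 648 := (pow_dvd_pow 3 (show 5 ≤ n by omega)).trans hd
        norm_num at this
      have hrel : R.relIndex E * Nat.card (E ⊓ R : Subgroup X) = 27 := by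
        rw [← hEcard, mul_comm, inf_comm, ← Nat.card_congr (Subgroup.subgroupOfEquivOfLe
          (inf_le_right : R ⊓ E ≤ E)).toEquiv, Subgroup.inf_subgroupOf_right]
        exact Subgroup.card_mul_index _
      have hrel' : R.relIndex E ≤ 3 := by
        have h2 : R.relIndex E ∣ R.relIndex (E ⊔ R) := by rw [Subgroup.relIndex_sup_right]
        have h3 : R.relIndex (E ⊔ R) * 27 = 3 ^ n := by
          rw [← hRcard, ← hn, mul_comm, ← Nat.card_congr (Subgroup.subgroupOfEquivOfLe
            (le_sup_right : R ≤ E ⊔ R)).toEquiv]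
          exact Subgroup.card_mul_index _
        have h4 : 3 ^ n ≤ 81 := by
          have := Nat.pow_le_pow_right (show 0 < 3 by norm_num) hn4; norm_num at this; omega
        have h5 : R.relIndex (E ⊔ R) ≤ 3 := by omega
        exact (Nat.le_of_dvd (Nat.pos_of_ne_zero fun h0 => by rw [h0, zero_mul] at h3; exact absurd h3.symm (pow_ne_zero _ (by norm_num))) h2).trans h5
      nlinarith
    obtain ⟨u, ⟨huE, huR⟩, huZ⟩ := SetLike.not_le_iff_exists.1 hnot
    obtain ⟨k, hkZ, hk⟩ := hpex u huR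
    set w := u * k with hw
    have hwR : w ∈ R := R.mul_mem huR (hZR hkZ)
    have hwZ : w ∉ Z := fun h => huZ (by simpa [hw] using Z.mul_mem h (Z.inv_mem hkZ))
    have hεw : w * ε = ε * w := by
      have := congrArg Subtype.val (mul_comm' (⟨u, huE⟩ : E) ⟨ε, hεE⟩)
      simp only [Subgroup.coe_mul] at this
      rw [hw, mul_assoc, ← hZcomm ε k hkZ, ← mul_assoc, this, mul_assoc]
    -- split ε
    set q := ε * z * ε⁻¹ * z with hq
    have hqR : q ∈ R := (hker _).1 (by
      rw [hq, map_mul, map_mul, map_mul, map_inv, hπz, conj_neg_one])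
    have hqinv : z * q * z⁻¹ = q⁻¹ := by
      rw [hq, hzinv, _root_.mul_inv_rev, hzinv, show (ε * z * ε⁻¹)⁻¹ = ε * z⁻¹ * ε⁻¹ by group, hzinv]
      calc z * (ε * z * ε⁻¹ * z) * z = z * (ε * z * ε⁻¹) * (z * z) := by group
        _ = _ := by rw [hz2]; group
    -- q⁻¹ conjugates z to ε z ε⁻¹
    have hconj : q⁻¹ * z * q = ε * z * ε⁻¹ := by
      have hq3 := hRexp q hqR
      calc q⁻¹ * z * q = q⁻¹ * (z * q * z⁻¹) * z := by group
        _ = q⁻¹ * q⁻¹ * z := by rw [hqinv]
        _ = q⁻¹ * q⁻¹ * q ^ 3 * z := by rw [hq3]; group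
        _ = q * z := by group
        _ = ε * z * ε⁻¹ * (z * z) := by rw [hq]; group
        _ = _ := by rw [hz2, mul_one]
    set h₀ := q * ε with hh₀
    have hh₀z : z * h₀ = h₀ * z := by
      calc z * h₀ = q * (q⁻¹ * z * q) * ε := by rw [hh₀]; group
        _ = q * (ε * z * ε⁻¹) * ε := by rw [hconj]
        _ = _ := by rw [hh₀]; group
    have hh₀R : h₀ ∉ R := fun h => hεR (by simpa [hh₀] using R.mul_mem (R.inv_mem hqR) h)
    set r := ε⁻¹ * q⁻¹ * ε with hr
    have hrR : r ∈ R := by simpa [hr] using hRn _ (R.inv_mem hqR) ε⁻¹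
    have hhr : h₀ * r = ε := by rw [hh₀, hr]; group
    -- h₀ fixes w
    have hh₀w : h₀ * w * h₀⁻¹ = w := by
      set k' := q * w * q⁻¹ * w⁻¹ with hk'
      have hk'Z : k' ∈ Z := hcommZ q hqR w hwR
      have h1 : h₀ * w * h₀⁻¹ = k' * w := by
        have e1 : ε * w * ε⁻¹ = w := by rw [← hεw]; group
        calc h₀ * w * h₀⁻¹ = q * (ε * w * ε⁻¹) * q⁻¹ := by rw [hh₀]; group
          _ = k' * w := by rw [e1, hk']; group
      have h2 : z * (k' * w) * z⁻¹ = (k' * w)⁻¹ := by
        rw [← h1]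
        calc z * (h₀ * w * h₀⁻¹) * z⁻¹ = (z * h₀) * w * (z * h₀)⁻¹ := by group
          _ = h₀ * (z * w * z⁻¹) * h₀⁻¹ := by rw [hh₀z]; group
          _ = _ := by rw [hk]; group
      rw [show z * (k' * w) * z⁻¹ = (z * k' * z⁻¹) * (z * w * z⁻¹) by group, hfix z k' hk'Z, hk,
        _root_.mul_inv_rev k' w] at h2
      rw [hZcomm w⁻¹ k'⁻¹ (Z.inv_mem hk'Z)] at h2
      have h3 : k' = k'⁻¹ := mul_right_cancel h2
      have hk1 : k' = 1 := by
        have h4 : k' * k' = 1 := by conv_lhs => arg 2; rw [h3]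
                                    rw [mul_inv_cancel]
        have := hZ3 k' hk'Z
        rwa [pow_succ, pow_two, h4, one_mul] at this
      rw [h1, hk1, one_mul]
    refine ⟨h₀, w, hh₀z, ?_, hh₀R, hwR, hwZ, hk, r, hrR, by rw [hhr]; exact hεw,
      by rw [hhr]; exact hE3 ε hεE, hh₀w, ?_⟩
    · apply hnotcent _ ((hker _).1 ?_)
      · exact ((show Commute z h₀ from hh₀z).pow_right 3).eq
      · rw [map_pow, show π h₀ = π ε by rw [hh₀, map_mul, (hker q).2 hqR, one_mul], ← map_pow, hE3 ε hεE,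
          map_one]
    · calc r * w = h₀⁻¹ * (w * (h₀ * r)) := by rw [hhr, hεw, ← hhr]; group
        _ = h₀⁻¹ * (h₀ * w * h₀⁻¹) * (h₀ * r) := by rw [hh₀w]; group
        _ = _ := by group
  obtain ⟨r, hrR, -, hεcube, hh₀w', hrw⟩ := hh₀w
  -- a second generator
  obtain ⟨b, hbR, hbinv, hwb⟩ : ∃ b ∈ R, z * b * z⁻¹ = b⁻¹ ∧ w * b ≠ b * w := by
    obtain ⟨s, hs, hsw⟩ : ∃ s ∈ R, w * s ≠ s * w := by
      by_contra hh
      push Not at hh
      exact hwZ ⟨⟨w, hwR⟩, Subgroup.mem_center_iff.2 fun s => Subtype.ext (hh s s.2).symm, rfl⟩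
    obtain ⟨k, hkZ, hk⟩ := hpex s hs
    refine ⟨s * k, R.mul_mem hs (hZR hkZ), hk, fun h => hsw ?_⟩
    rw [mul_assoc, ← hZcomm w k hkZ, ← mul_assoc, ← mul_assoc] at h
    exact mul_right_cancel h
  set c := w * b * w⁻¹ * b⁻¹ with hc
  have hcZ : c ∈ Z := hcommZ w hwR b hbR
  have hc1 : c ≠ 1 := fun h => hwb (by
    calc w * b = c * (b * w) := by rw [hc]; group
      _ = b * w := by rw [h, one_mul])
  obtain ⟨φ, hφ⟩ := exists_hom (hRexp w hwR) (hRexp b hbR) (hZ3 c hcZ) (hZcomm w c hcZ) (hZcomm b c hcZ)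
    (show w * b = c * (b * w) by rw [hc]; group)
  have hφR : ∀ x, φ x ∈ R := fun x => by
    rw [show x = ⟨x.vec, x.cen⟩ from rfl, hφ]
    exact R.mul_mem (R.mul_mem (R.pow_mem hwR _) (R.pow_mem hbR _)) (R.pow_mem (hZR hcZ) _)
  have hφcen : ∀ t, φ ⟨0, t⟩ = pw c t := fun t => by simp [hφ, pw_zero]
  have hpwc : ∀ t, pw c t = 1 → t = 0 := by
    intro t h
    have hd := orderOf_dvd_of_pow_eq_one h
    rw [orderOf_eq_prime (hZ3 c hcZ) hc1] at hd
    have := ZMod.val_lt t
    exact (ZMod.val_eq_zero t).1 (Nat.eq_zero_of_dvd_of_lt hd this)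
  have hφinj : Function.Injective φ := by
    rw [injective_iff_map_eq_one]
    intro x hx
    have hom0 : ∀ y : Hs, om x.vec y.vec = 0 := by
      intro y
      have h1 : φ (x * y * x⁻¹ * y⁻¹) = 1 := by simp [hx]
      rw [show x * y * x⁻¹ * y⁻¹ = ⟨0, om x.vec y.vec⟩ by
        ext
        · simp [mul_vec, inv_vec]
        · simp [mul_cen, mul_vec, inv_cen, inv_vec, om]
          have : ∀ i : K, i + i + i = 0 := by decide
          linear_combination this (x.vec 1 * y.vec 0) - this (x.vec 0 * y.vec 1)] at h1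
      rw [hφcen] at h1
      exact hpwc _ h1
    have h0 : x.vec 0 = 0 := by simpa [om] using hom0 ⟨![0, 1], 0⟩
    have h1 : x.vec 1 = 0 := by simpa [om] using hom0 ⟨![1, 0], 0⟩
    have hv : x.vec = 0 := by ext i; fin_cases i <;> simpa
    have hx' : x = ⟨0, x.cen⟩ := Hs.ext hv rfl
    rw [hx', hφcen] at hx
    rw [hx', hpwc _ hx]; rfl
  have hφrange : φ.range = R := Subgroup.eq_of_le_of_card_ge (by rintro _ ⟨x, rfl⟩; exact hφR x)
    (by rw [hRcard, ← Nat.card_congr (MonoidHom.ofInjective hφinj).toEquiv, card_hs])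
  -- z on coordinates
  have hzφ : ∀ x : Hs, z * φ x * z⁻¹ = φ ⟨-x.vec, x.cen⟩ := by
    intro x
    rw [show x = ⟨x.vec, x.cen⟩ from rfl, hφ, hφ]
    show z * (w ^ (x.vec 0).val * b ^ (x.vec 1).val * pw c _) * z⁻¹ = _
    rw [show z * (w ^ (x.vec 0).val * b ^ (x.vec 1).val * pw c (x.vec 0 * x.vec 1 + x.cen)) * z⁻¹ =
      (z * w ^ (x.vec 0).val * z⁻¹) * (z * b ^ (x.vec 1).val * z⁻¹) *
        (z * pw c (x.vec 0 * x.vec 1 + x.cen) * z⁻¹) by group, ← conj_pow, ← conj_pow, hwinv, hbinv,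
      inv_pow, inv_pow, hfix z (pw c _) (Z.pow_mem hcZ _)]
    simp only [Pi.neg_apply, neg_mul_neg, pw_neg (hRexp w hwR), pw_neg (hRexp b hbR)]
    rfl
  have hinv0 : ∀ x : Hs, z * φ x * z⁻¹ = (φ x)⁻¹ → x.cen = 0 := by
    intro x h
    rw [hzφ, ← map_inv] at h
    have := congrArg Hs.cen (hφinj h)
    rw [inv_cen] at this
    simp only at this
    have key : ∀ i : K, i = -i → i = 0 := by decide
    exact key _ this
  -- r commutes with h₀
  have hh₀c : ∀ t, h₀ * pw c t = pw c t * h₀ := fun t => hZcomm h₀ _ (Z.pow_mem hcZ _)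
  have hcube : h₀ ^ 3 = 1 := by
    obtain ⟨x, hx⟩ : r ∈ φ.range := hφrange.symm ▸ hrR
    have hx1 : x.vec 1 = 0 := by
      have hwφ : w = φ ⟨![1, 0], 0⟩ := by simp [hφ, pw_one, pw_zero]
      rw [← hx, hwφ, ← map_mul, ← map_mul] at hrw
      have := congrArg Hs.cen (hφinj hrw)
      simp [mul_cen, om] at this
      have key : ∀ s i : K, s + i = s - i → i = 0 := by decide
      first
        | exact key _ _ this.symm
        | exact key _ _ this
    have hr' : r = w ^ (x.vec 0).val * pw c x.cen := by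
      rw [← hx, show x = ⟨x.vec, x.cen⟩ from rfl, hφ, hx1, pw_zero, mul_one, mul_zero, zero_add]
      rfl
    have hcomm : Commute h₀ r := by
      rw [hr']
      refine Commute.mul_right ?_ (hh₀c _)
      exact (show Commute h₀ w from mul_inv_eq_iff_eq_mul.1 hh₀w').pow_right _
    have := hcomm.mul_pow 3
    rw [hεcube, hRexp r hrR, mul_one] at this
    exact this.symm
  -- centralizer of z and a complement
  set C := Subgroup.centralizer ({z} : Set X) with hC
  have hCR : ∀ x ∈ C, x ∈ R → x ∈ Z := fun x hx hxR =>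
    hnotcent x hxR (Subgroup.mem_centralizer_singleton_iff.1 hx).symm
  have hCsurj : ∀ g : SL₂, ∃ x ∈ C, π x = g := by
    intro g
    obtain ⟨x, rfl⟩ := hπ g
    set q := x * z * x⁻¹ * z with hq
    have hqR : q ∈ R := (hker _).1 (by
      rw [hq, map_mul, map_mul, map_mul, map_inv, hπz, conj_neg_one])
    have hqinv : z * q * z⁻¹ = q⁻¹ := by
      rw [hq, hzinv, _root_.mul_inv_rev, hzinv, show (x * z * x⁻¹)⁻¹ = x * z⁻¹ * x⁻¹ by group, hzinv]
      calc z * (x * z * x⁻¹ * z) * z = z * (x * z * x⁻¹) * (z * z) := by group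
        _ = _ := by rw [hz2]; group
    have hconj : q⁻¹ * z * q = x * z * x⁻¹ := by
      have hq3 := hRexp q hqR
      calc q⁻¹ * z * q = q⁻¹ * (z * q * z⁻¹) * z := by group
        _ = q⁻¹ * q⁻¹ * z := by rw [hqinv]
        _ = q⁻¹ * q⁻¹ * q ^ 3 * z := by rw [hq3]; group
        _ = q * z := by group
        _ = x * z * x⁻¹ * (z * z) := by rw [hq]; group
        _ = _ := by rw [hz2, mul_one]
    refine ⟨q * x, Subgroup.mem_centralizer_singleton_iff.2 ?_, by rw [map_mul, (hker q).2 hqR, one_mul]⟩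
    symm
    calc z * (q * x) = q * (q⁻¹ * z * q) * x := by group
      _ = q * (x * z * x⁻¹) * x := by rw [hconj]
      _ = _ := by group
  let T := Multiplicative K × Multiplicative K
  have hh₀' : h₀ ∈ C := Subgroup.mem_centralizer_singleton_iff.2 hh₀z.symm
  have hcC : c ∈ C := Subgroup.mem_centralizer_singleton_iff.2 (hZcomm z c hcZ).symm
  let f : T →* C := MonoidHom.mk'
    (fun p => ⟨pw c p.1.toAdd * pw h₀ p.2.toAdd, C.mul_mem (C.pow_mem hcC _) (C.pow_mem hh₀' _)⟩)
    fun p q => Subtype.ext (by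
      show pw c (p.1.toAdd + q.1.toAdd) * pw h₀ (p.2.toAdd + q.2.toAdd) = _
      rw [pw_add (hZ3 c hcZ), pw_add hcube]
      have hcm : pw c q.1.toAdd * pw h₀ p.2.toAdd = pw h₀ p.2.toAdd * pw c q.1.toAdd :=
        (hZcomm _ _ (Z.pow_mem hcZ _)).symm
      rw [Subgroup.coe_mul]
      simp only [mul_assoc]
      rw [← mul_assoc (pw c q.1.toAdd), hcm, mul_assoc])
  have hf : Function.Injective f := by
    rw [injective_iff_map_eq_one]
    rintro ⟨p, q⟩ h
    have h' : pw c p.toAdd * pw h₀ q.toAdd = 1 := congrArg Subtype.val h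
    have hq : q.toAdd = 0 := by
      by_contra hne
      have hmem : pw h₀ q.toAdd ∈ R := by
        rw [eq_inv_of_mul_eq_one_right h']
        exact R.inv_mem (hZR (Z.pow_mem hcZ _))
      obtain hv | hv : q.toAdd.val = 1 ∨ q.toAdd.val = 2 := by
        have := ZMod.val_lt q.toAdd
        have : q.toAdd.val ≠ 0 := fun h0 => hne ((ZMod.val_eq_zero _).1 h0)
        omega
      · rw [pw, hv, pow_one] at hmem; exact hh₀R hmem
      · rw [pw, hv] at hmem
        apply hh₀R
        have := R.mul_mem hmem hmem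
        rwa [← pow_add, show 2 + 2 = 3 + 1 from rfl, pow_succ, hcube, one_mul] at this
    rw [hq, pw_zero, mul_one] at h'
    exact Prod.ext (hpwc _ h') hq
  let eT : T ≃* f.range := MonoidHom.ofInjective hf
  let tr : C →* Multiplicative K :=
    MonoidHom.transfer ((MonoidHom.fst (Multiplicative K) (Multiplicative K)).comp eT.symm.toMonoidHom)
  have hCcard : Nat.card C = 72 := by
    have hsurj : Function.Surjective (π.comp C.subtype) := fun g => by
      obtain ⟨x, hx, h⟩ := hCsurj g; exact ⟨⟨x, hx⟩, h⟩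
    have hk : (π.comp C.subtype).ker = Z.subgroupOf C := by
      ext x
      rw [MonoidHom.mem_ker, Subgroup.mem_subgroupOf]
      exact ⟨fun h => hCR x x.2 ((hker _).1 h), fun h => (hker _).2 (hZR h)⟩
    have hZC : Z ≤ C := fun d hd => Subgroup.mem_centralizer_singleton_iff.2 (hZcomm z d hd).symm
    rw [Subgroup.card_eq_card_quotient_mul_card_subgroup (π.comp C.subtype).ker,
      Nat.card_congr (QuotientGroup.quotientKerEquivOfSurjective _ hsurj).toEquiv, card_sl, hk,
      Nat.card_congr (Subgroup.subgroupOfEquivOfLe hZC).toEquiv, hZcard]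
  have hindex : f.range.index = 8 := by
    have h9 : Nat.card f.range = 9 := by
      rw [← Nat.card_congr eT.toEquiv]; simp [T]
    have := f.range.card_mul_index
    rw [h9, hCcard] at this
    omega
  have htr : ∀ t : K, tr (f (Multiplicative.ofAdd t, 1)) = Multiplicative.ofAdd t ^ 8 := by
    intro t
    have hcent : ∀ (k : ℕ) (g₀ : C), g₀⁻¹ * f (Multiplicative.ofAdd t, 1) ^ k * g₀ ∈ f.range →
        g₀⁻¹ * f (Multiplicative.ofAdd t, 1) ^ k * g₀ = f (Multiplicative.ofAdd t, 1) ^ k := by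
      intro k g₀ _
      have hm : ∀ g : C, g * f (Multiplicative.ofAdd t, 1) = f (Multiplicative.ofAdd t, 1) * g :=
        fun g => Subtype.ext (by
          show (g : X) * (pw c t * pw h₀ 0) = pw c t * pw h₀ 0 * g
          rw [pw_zero, mul_one]; exact hZcomm _ _ (Z.pow_mem hcZ _))
      rw [mul_assoc, ← ((show Commute g₀ (f (Multiplicative.ofAdd t, 1)) from hm g₀).pow_right k).eq,
        inv_mul_cancel_left]
    rw [MonoidHom.transfer_eq_pow _ _ hcent]
    have e1 : ∀ (hmem : f (Multiplicative.ofAdd t, 1) ^ f.range.index ∈ f.range),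
        (⟨f (Multiplicative.ofAdd t, 1) ^ f.range.index, hmem⟩ : f.range) =
          eT ((Multiplicative.ofAdd t, 1) ^ 8) := fun hmem =>
      Subtype.ext (by show f _ ^ f.range.index = f _; rw [hindex, map_pow])
    rw [MonoidHom.comp_apply, e1]
    simp only [MulEquiv.coe_toMonoidHom, MulEquiv.symm_apply_apply, MonoidHom.coe_fst]
    rfl
  have htrsurj : Function.Surjective tr := fun y => by
    refine ⟨f (Multiplicative.ofAdd (2 * y.toAdd), 1), ?_⟩
    rw [htr, ← ofAdd_nsmul]
    have : ∀ i : K, 8 • (2 * i) = i := by decide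
    rw [this]; simp
  let H : Subgroup X := tr.ker.map C.subtype
  have hHcard : Nat.card H = 24 := by
    rw [Subgroup.card_map_of_injective C.subtype_injective]
    have := Subgroup.card_eq_card_quotient_mul_card_subgroup tr.ker
    rw [Nat.card_congr (QuotientGroup.quotientKerEquivOfSurjective _ htrsurj).toEquiv, hCcard] at this
    rw [Nat.card_congr Multiplicative.toAdd, Nat.card_zmod] at this
    omega
  have hHC : H ≤ C := Subgroup.map_subtype_le _
  have hHR : ∀ x ∈ H, x ∈ R → x = 1 := by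
    rintro _ ⟨x, hx, rfl⟩ hxR
    have hxZ := hCR x x.2 hxR
    have hzc : Subgroup.zpowers c = Z := Subgroup.eq_of_le_of_card_ge (Subgroup.zpowers_le.2 hcZ)
      (by rw [Nat.card_zpowers, orderOf_eq_prime (hZ3 c hcZ) hc1, hZcard])
    rw [← hzc, mem_zpowers_iff_mem_range_orderOf, orderOf_eq_prime (hZ3 c hcZ) hc1] at hxZ
    simp only [Finset.mem_image, Finset.mem_range] at hxZ
    obtain ⟨i, hi, hxi⟩ := hxZ
    have hxf : x = f (Multiplicative.ofAdd (i : K), 1) := Subtype.ext (by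
      show (x : X) = pw c (i : K) * pw h₀ 0
      rw [pw_zero, mul_one, pw, ZMod.val_natCast_of_lt hi, hxi])
    rw [SetLike.mem_coe, MonoidHom.mem_ker, hxf, htr, ← ofAdd_nsmul] at hx
    have key : ∀ k : K, 8 • k = 0 → k = 0 := by decide
    have := key _ (ofAdd_eq_one.1 hx)
    rw [hxf, this]
    show pw c 0 * pw h₀ 0 = 1
    simp [pw_zero]
  -- the action on coordinates
  let ψ₀ : ∀ h : H, (Fin 2 → K) → Hs := fun h v => Function.invFun φ ((h : X) * φ ⟨v, 0⟩ * (h : X)⁻¹)
  have hψ₀ : ∀ h v, φ (ψ₀ h v) = (h : X) * φ ⟨v, 0⟩ * (h : X)⁻¹ := fun h v =>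
    Function.invFun_eq (MonoidHom.mem_range.1 (show _ ∈ φ.range by rw [hφrange]; exact hRn _ (hφR _) _))
  have hψcen : ∀ h v, (ψ₀ h v).cen = 0 := fun h v => hinv0 _ (by
    rw [hψ₀]
    have hcm : z * (h : X) = h * z := (Subgroup.mem_centralizer_singleton_iff.1 (hHC h.2)).symm
    calc z * ((h : X) * φ ⟨v, 0⟩ * (h : X)⁻¹) * z⁻¹ = (z * h) * φ ⟨v, 0⟩ * (z * h)⁻¹ := by group
      _ = h * (z * φ ⟨v, 0⟩ * z⁻¹) * (h : X)⁻¹ := by rw [hcm]; group
      _ = _ := by
        rw [hzφ, show (⟨-v, 0⟩ : Hs) = (⟨v, 0⟩ : Hs)⁻¹ from Hs.ext rfl (by simp [inv_cen]), map_inv]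
        group)
  have hcenconj : ∀ (x : X) t, x * φ ⟨0, t⟩ * x⁻¹ = φ ⟨0, t⟩ := fun x t => by
    rw [hφcen]; exact hfix x _ (Z.pow_mem hcZ _)
  have hsplit : ∀ v t, (⟨v, t⟩ : Hs) = ⟨v, 0⟩ * ⟨0, t⟩ := fun v t => by
    ext <;> simp [mul_vec, mul_cen, om]
  have hgen : ∀ (h : H) v t, (h : X) * φ ⟨v, t⟩ * (h : X)⁻¹ = φ ⟨(ψ₀ h v).vec, t⟩ := by
    intro h v t
    rw [hsplit v t, map_mul, show (h : X) * (φ ⟨v, 0⟩ * φ ⟨0, t⟩) * (h : X)⁻¹ =
      ((h : X) * φ ⟨v, 0⟩ * (h : X)⁻¹) * ((h : X) * φ ⟨0, t⟩ * (h : X)⁻¹) by group, hcenconj, ← hψ₀,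
      ← map_mul]
    congr 1
    ext
    · simp [mul_vec]
    · simp [mul_cen, mul_vec, hψcen, om]
  have hadd : ∀ h v u, (ψ₀ h (v + u)).vec = (ψ₀ h v).vec + (ψ₀ h u).vec ∧
      om (ψ₀ h v).vec (ψ₀ h u).vec = om v u := by
    intro h v u
    have h1 := hgen h (v + u) (-om v u)
    rw [show (⟨v + u, -om v u⟩ : Hs) = ⟨v, 0⟩ * ⟨u, 0⟩ from Hs.ext rfl (by simp [mul_cen]), map_mul,
      show (h : X) * (φ ⟨v, 0⟩ * φ ⟨u, 0⟩) * (h : X)⁻¹ =
      ((h : X) * φ ⟨v, 0⟩ * (h : X)⁻¹) * ((h : X) * φ ⟨u, 0⟩ * (h : X)⁻¹) by group, ← hψ₀, ← hψ₀,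
      ← map_mul] at h1
    have h2 := hφinj h1
    refine ⟨(congrArg Hs.vec h2).symm, ?_⟩
    have h3 := congrArg Hs.cen h2
    simp [mul_cen, hψcen] at h3
    exact h3
  let L : ∀ h : H, (Fin 2 → K) →ₗ[K] (Fin 2 → K) := fun h =>
    (AddMonoidHom.mk' (fun v => (ψ₀ h v).vec) fun v u => (hadd h v u).1).toZModLinearMap 3
  have hL : ∀ h v, (LinearMap.toMatrix' (L h)).mulVec v = (ψ₀ h v).vec := fun h v => by
    rw [← Matrix.toLin'_apply, Matrix.toLin'_toMatrix']; rfl
  have hdet : ∀ h, (LinearMap.toMatrix' (L h)).det = 1 := fun h => by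
    have h1 := om_mulVec (LinearMap.toMatrix' (L h)) ![1, 0] ![0, 1]
    rw [hL, hL, (hadd h _ _).2, show om ![1, 0] ![0, 1] = (1 : K) by simp [om], mul_one] at h1
    exact h1.symm
  let g : H → SL₂ := fun h => ⟨LinearMap.toMatrix' (L h), hdet h⟩
  have hg : ∀ (h : H) x, (h : X) * φ x * (h : X)⁻¹ = φ (act (g h) x) := fun h x => by
    rw [act_apply, show (g h).1.mulVec x.vec = (ψ₀ h x.vec).vec from hL h _]
    exact hgen h x.vec x.cen
  let gh : H →* SL₂ := MonoidHom.mk' g fun h k => by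
    have key : ∀ v, (g (h * k)).1.mulVec v = (g h * g k).1.mulVec v := by
      intro v
      have h1 := hg (h * k) ⟨v, 0⟩
      rw [Subgroup.coe_mul, show (h : X) * k * φ ⟨v, 0⟩ * ((h : X) * k)⁻¹ =
        h * (k * φ ⟨v, 0⟩ * (k : X)⁻¹) * (h : X)⁻¹ by group, hg, hg] at h1
      have := congrArg Hs.vec (hφinj h1)
      simp only [act_apply] at this
      rw [Matrix.SpecialLinearGroup.coe_mul, ← Matrix.mulVec_mulVec]
      exact this.symm
    exact Subtype.ext (Matrix.ext_of_mulVec_single fun i => key _)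
  have hginj : Function.Injective gh := by
    rw [injective_iff_map_eq_one]
    intro h hh
    have hh' : g h = 1 := hh
    have hcR : (h : X) ∈ Subgroup.centralizer (R : Set X) := fun x hx => by
      obtain ⟨y, rfl⟩ : x ∈ φ.range := hφrange.symm ▸ hx
      have := hg h y
      rw [hh', map_one, MulAut.one_apply] at this
      conv_lhs => rw [← this]
      group
    set N := Subgroup.centralizer (R : Set X) with hN
    haveI : N.Normal := inferInstance
    have hodd : IsPGroup 3 N := by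
      intro y
      obtain ⟨k, hk⟩ : ∃ k, orderOf y = k := ⟨_, rfl⟩
      have h2 : ¬ 2 ∣ orderOf y := by
        intro h2
        set y₂ := y ^ (orderOf y / 2) with hy₂
        have ho : orderOf y₂ = 2 := orderOf_pow_orderOf_div (orderOf_pos y).ne' h2
        have hsq : (y₂ : X) * y₂ = 1 := by
          rw [← pow_two]
          exact congrArg Subtype.val (ho ▸ pow_orderOf_eq_one y₂ : y₂ ^ 2 = 1)
        have hπ2 := sq_eq_one (π y₂) (by rw [← map_mul, hsq, map_one])
        rcases hπ2 with hp | hp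
        · have hmem : (y₂ : X) ∈ R := (hker _).1 hp
          have h3 := hRexp _ hmem
          rw [pow_succ, pow_two, hsq, one_mul] at h3
          have hone : y₂ = 1 := Subtype.ext h3
          rw [hone, orderOf_one] at ho
          omega
        · have hmem : z * (y₂ : X) ∈ R := (hker _).1 (by rw [map_mul, hπz, hp]; exact Subtype.ext (by simp))
          set s := z * (y₂ : X) with hs
          have hzs : z = s * (y₂ : X)⁻¹ := by rw [hs]; group
          have hy2c := Subgroup.mem_centralizer_iff.1 (N.inv_mem y₂.2 : (y₂ : X)⁻¹ ∈ Subgroup.centralizer (R : Set X))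
          apply hwb
          have act' : ∀ x ∈ R, z * x * z⁻¹ = s * x * s⁻¹ := fun x hx => by
            rw [hzs, _root_.mul_inv_rev, inv_inv, mul_assoc s _ x, ← hy2c x hx]
            group
          have hws : w * b * w⁻¹ * b⁻¹ = c := rfl
          have e1 := act' w hwR
          rw [hwinv] at e1
          have hcz : s * w * s⁻¹ * w⁻¹ ∈ Z := hcommZ s hmem w hwR
          rw [← e1] at hcz
          have : w ∈ Z := by
            have h4 := Z.inv_mem hcz
            have h3 := hRexp w hwR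
            rw [_root_.mul_inv_rev, inv_inv] at h4
            have h5 : w * w ∈ Z := h4
            have := Z.mul_mem h5 h5
            rwa [show w * w * (w * w) = w ^ 3 * w by rw [pow_succ, pow_two]; simp only [mul_assoc], h3, one_mul] at this
          exact absurd this hwZ
      have hd : orderOf y ∣ 2 ^ 3 * 3 ^ 4 := by
        rw [show 2 ^ 3 * 3 ^ 4 = 648 from rfl, ← hcardX]
        exact (orderOf_dvd_natCard y).trans (Subgroup.card_subgroup_dvd_card N)
      have hd' : orderOf y ∣ 3 ^ 4 :=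
        (Nat.Coprime.pow_right 3 (Nat.coprime_comm.1 ((Nat.prime_two.coprime_iff_not_dvd).2 h2))).dvd_of_dvd_mul_left hd
      obtain ⟨j, -, hj⟩ := (Nat.dvd_prime_pow Nat.prime_three).1 hd'
      exact ⟨j, by rw [← hj, pow_orderOf_eq_one]⟩
    have hle : N ≤ R := le_sSup ⟨inferInstance, hodd⟩
    exact Subtype.ext (hHR _ h.2 (hle hcR))
  have hgbij : Function.Bijective gh := (Nat.bijective_iff_injective_and_card _).2 ⟨hginj, by rw [hHcard, card_sl]⟩
  let σ : SL₂ →* X := H.subtype.comp (MulEquiv.ofBijective gh hgbij).symm.toMonoidHom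
  have hcompat : ∀ a : SL₂, φ.comp (act a).toMonoidHom = (MulAut.conj (σ a)).toMonoidHom.comp φ := by
    intro a
    refine MonoidHom.ext fun x => ?_
    have h1 := hg ((MulEquiv.ofBijective gh hgbij).symm a) x
    rw [show g ((MulEquiv.ofBijective gh hgbij).symm a) = a from
      (MulEquiv.ofBijective gh hgbij).apply_symm_apply a] at h1
    exact h1.symm
  let Φ : Mod →* X := SemidirectProduct.lift φ σ hcompat
  have hΦ : Function.Injective Φ := lift_injective φ σ hcompat fun x a h => by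
    have hmem : σ a ∈ R := by rw [eq_inv_of_mul_eq_one_right h]; exact R.inv_mem (hφR x)
    have ha : σ a = 1 := hHR _ ((MulEquiv.ofBijective gh hgbij).symm a).2 hmem
    rw [ha, mul_one] at h
    refine ⟨hφinj (h.trans (map_one φ).symm), ?_⟩
    have h2 : (MulEquiv.ofBijective gh hgbij).symm a = 1 := Subtype.ext ha
    have := congrArg (MulEquiv.ofBijective gh hgbij) h2
    rwa [MulEquiv.apply_symm_apply, map_one] at this
  have hcardM : Nat.card Mod = Nat.card X := by
    rw [SemidirectProduct.card, card_hs, card_sl, hcardX]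
  exact ⟨MulEquiv.ofBijective Φ ((Nat.bijective_iff_injective_and_card _).2 ⟨hΦ, hcardM⟩)⟩

end Cfsg.Agent.HeisSLThree
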