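/-
The centralizer of a transvection in PSp(4,3) as a split extension of the Heisenberg group by SL(2,3).
-/
import Cfsg.Agent.Lib.HeisSLThree.Model
import Cfsg.Agent.Lib.Classical.Symplectic
import Cfsg.Agent.Lib.Classical.TwoByTwo
import Cfsg.Prelude.Def_Classical

set_option autoImplicit false

namespace Cfsg.Agent.HeisSLThree

open Matrix

variable {F : Type*} [Field F]

/-- Unipotent elements. -/
def nMat (x y t : F) : Matrix (Fin 2 ⊕ Fin 2) (Fin 2 ⊕ Fin 2) F :=
  fromBlocks !![1, -y; 0, 1] !![t, x; x, 0] 0 !![1, 0; y, 1]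

/-- Levi elements. -/
def lMat (g : Matrix (Fin 2) (Fin 2) F) : Matrix (Fin 2 ⊕ Fin 2) (Fin 2 ⊕ Fin 2) F :=
  fromBlocks !![1, 0; 0, g 0 0] !![0, 0; 0, g 0 1] !![0, 0; 0, g 1 0] !![1, 0; 0, g 1 1]

theorem nMat_mem (x y t : F) : nMat x y t ∈ symplecticGroup (Fin 2) F := by
  rw [nMat, SymplecticGroup.fromBlocks_mem_iff]
  refine ⟨?_, ?_, ?_⟩ <;> ext i j <;> fin_cases i <;> fin_cases j <;>
    simp [Matrix.mul_apply, Fin.sum_univ_two] <;> ring

theorem lMat_mem {g : Matrix (Fin 2) (Fin 2) F} (hg : g.det = 1) : lMat g ∈ symplecticGroup (Fin 2) F := by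
  rw [Matrix.det_fin_two] at hg
  rw [lMat, SymplecticGroup.fromBlocks_mem_iff]
  refine ⟨?_, ?_, ?_⟩ <;> ext i j <;> fin_cases i <;> fin_cases j <;>
    simp [Matrix.mul_apply, Fin.sum_univ_two] <;> first | ring1 | linear_combination hg | linear_combination -hg

theorem nMat_mul (x y t x' y' t' : F) :
    nMat x y t * nMat x' y' t' = nMat (x + x') (y + y') (t + t' + (x * y' - y * x')) := by
  rw [nMat, nMat, nMat, fromBlocks_multiply]
  congr 1 <;> ext i j <;> fin_cases i <;> fin_cases j <;>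
    simp [Matrix.mul_apply, Fin.sum_univ_two] <;> ring

theorem lMat_mul (g h : Matrix (Fin 2) (Fin 2) F) : lMat g * lMat h = lMat (g * h) := by
  rw [lMat, lMat, lMat, fromBlocks_multiply]
  congr 1 <;> ext i j <;> fin_cases i <;> fin_cases j <;>
    simp [Matrix.mul_apply, Fin.sum_univ_two]

theorem lMat_one : lMat (1 : Matrix (Fin 2) (Fin 2) F) = 1 := by
  rw [lMat, ← fromBlocks_one]
  congr 1 <;> ext i j <;> fin_cases i <;> fin_cases j <;> simp

theorem nMat_zero : nMat (0 : F) 0 0 = 1 := by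
  rw [nMat, ← fromBlocks_one]
  congr 1 <;> ext i j <;> fin_cases i <;> fin_cases j <;> simp

theorem lMat_nMat (g : Matrix (Fin 2) (Fin 2) F) (hg : g.det = 1) (x y t : F) :
    nMat (g 0 0 * x + g 0 1 * y) (g 1 0 * x + g 1 1 * y) t * lMat g = lMat g * nMat x y t := by
  rw [Matrix.det_fin_two] at hg
  rw [lMat, nMat, nMat, fromBlocks_multiply, fromBlocks_multiply]
  congr 1 <;> ext i j <;> fin_cases i <;> fin_cases j <;>
    simp [Matrix.mul_apply, Fin.sum_univ_two] <;>
    first | ring1 | linear_combination x * hg | linear_combination y * hg | linear_combination (-x) * hg |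
      linear_combination (-y) * hg

variable (ι : ZMod 3 ≃+* F)

/-- The unipotent part. -/
def nHom : Hs →* symplecticGroup (Fin 2) F :=
  MonoidHom.mk' (fun a => ⟨nMat (ι (a.vec 0)) (ι (a.vec 1)) (-ι a.cen), nMat_mem _ _ _⟩) fun a b =>
    Subtype.ext (by
      show nMat (ι ((a * b).vec 0)) (ι ((a * b).vec 1)) (-ι (a * b).cen) = nMat _ _ _ * nMat _ _ _
      rw [nMat_mul]
      simp only [mul_vec, mul_cen, Pi.add_apply, om, map_add, map_sub, map_mul]
      congr 1
      ring)

/-- The Levi part. -/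
def lHom : SL₂ →* symplecticGroup (Fin 2) F :=
  MonoidHom.mk' (fun g => ⟨lMat (ι.toRingHom.mapMatrix g.1), lMat_mem (by
    rw [← RingHom.map_det, g.2, map_one])⟩) fun g h => Subtype.ext (by
      show lMat (ι.toRingHom.mapMatrix (g * h).1) = lMat _ * lMat _
      rw [lMat_mul, Matrix.SpecialLinearGroup.coe_mul, map_mul])

theorem nl_compat (g : SL₂) :
    (nHom ι).comp (act g).toMonoidHom = (MulAut.conj (lHom ι g)).toMonoidHom.comp (nHom ι) := by
  refine MonoidHom.ext fun a => ?_
  show nHom ι (act g a) = lHom ι g * nHom ι a * (lHom ι g)⁻¹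
  rw [eq_mul_inv_iff_mul_eq]
  refine Subtype.ext ?_
  show nMat _ _ _ * lMat _ = lMat _ * nMat _ _ _
  rw [← lMat_nMat _ (by rw [← RingHom.map_det, g.2, map_one])]
  congr 1
  simp [act_apply, Matrix.mulVec, dotProduct, Fin.sum_univ_two]

/-- The embedding into Sp(4,3). -/
def spHom : Mod →* symplecticGroup (Fin 2) F :=
  SemidirectProduct.lift (nHom ι) (lHom ι) (nl_compat ι)

theorem spHom_val (m : Mod) : (spHom ι m).1 =
    nMat (ι (m.left.vec 0)) (ι (m.left.vec 1)) (-ι m.left.cen) * lMat (ι.toRingHom.mapMatrix m.right.1) := rfl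

theorem spHom_apply_00 (m : Mod) : (spHom ι m).1 (Sum.inl 0) (Sum.inl 0) = 1 := by
  rw [spHom_val, lMat, nMat, fromBlocks_multiply, fromBlocks_apply₁₁]
  simp [Matrix.mul_apply, Fin.sum_univ_two]

theorem spHom_injective : Function.Injective (spHom ι) := by
  refine lift_injective _ _ _ fun a g h => ?_
  have h' : nMat (ι (a.vec 0)) (ι (a.vec 1)) (-ι a.cen) * lMat (ι.toRingHom.mapMatrix g.1) = 1 :=
    congrArg Subtype.val h
  rw [lMat, nMat, fromBlocks_multiply, ← fromBlocks_one, fromBlocks_inj] at h'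
  obtain ⟨h11, h12, h21, h22⟩ := h'
  have e : ∀ {M N : Matrix (Fin 2) (Fin 2) F}, M = N → ∀ i j, M i j = N i j := fun h i j => by rw [h]
  have v0 : a.vec 0 = 0 := by
    have := e h12 1 0
    simp [Matrix.mul_apply, Fin.sum_univ_two] at this
    exact this
  have v1 : a.vec 1 = 0 := by
    have := e h22 1 0
    simp [Matrix.mul_apply, Fin.sum_univ_two] at this
    exact this
  have t0 : a.cen = 0 := by
    have := e h12 0 0
    simp [Matrix.mul_apply, Fin.sum_univ_two, v0, v1] at this
    exact this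
  refine ⟨Hs.ext (funext fun i => by fin_cases i <;> assumption) t0, Subtype.ext (Matrix.ext fun i j => ?_)⟩
  have e00 := e h11 1 1
  have e01 := e h12 1 1
  have e10 := e h21 1 1
  have e11 := e h22 1 1
  simp [Matrix.mul_apply, Fin.sum_univ_two, v0, v1] at e00 e01 e10 e11
  fin_cases i <;> fin_cases j <;> simp [e00, e01, e10, e11]

/-- The central element. -/
def tMod : Mod := SemidirectProduct.inl ⟨0, -1⟩

theorem tMod_val : (spHom ι tMod).1 = fromBlocks 1 !![1, 0; 0, 0] 0 1 := by
  rw [spHom_val]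
  simp only [tMod, SemidirectProduct.left_inl, SemidirectProduct.right_inl]
  rw [show ((1 : SL₂).1) = 1 from rfl, map_one, lMat_one, mul_one, nMat]
  congr 1 <;> ext i j <;> fin_cases i <;> fin_cases j <;> simp

theorem tMod_ne : tMod ≠ 1 := fun h => by
  have := congrArg (fun m : Mod => m.left.cen) h
  simp [tMod, one_cen] at this

theorem tMod_cube : tMod ^ 3 = 1 := by
  rw [tMod, ← map_pow, ← map_one (SemidirectProduct.inl : Hs →* Mod)]
  congr 1

theorem two_ne_zero_three : (2 : ZMod 3) ≠ 0 := by decide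

theorem center_cases [Finite F] (h2 : (2 : F) ≠ 0) (hc : Nat.card F = 3) {A : symplecticGroup (Fin 2) F}
    (hA : A ∈ Subgroup.center (symplecticGroup (Fin 2) F)) : A.1 = 1 ∨ A.1 = -1 := by
  classical
  let n1 : symplecticGroup (Fin 2) F := ⟨-1, SymplecticGroup.neg_mem (one_mem _)⟩
  have hn : n1 ∈ Subgroup.center (symplecticGroup (Fin 2) F) :=
    Subgroup.mem_center_iff.2 fun g => Subtype.ext (by show g.1 * -1 = -1 * g.1; simp)
  have hne : n1 ≠ 1 := fun h => by
    have := congrArg (fun A : symplecticGroup (Fin 2) F => A.1 (Sum.inl 0) (Sum.inl 0)) h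
    simp [n1] at this
    exact h2 (by linear_combination -this)
  have ho : orderOf n1 = 2 := orderOf_eq_prime (Subtype.ext (by
    show (-1 : Matrix (Fin 2 ⊕ Fin 2) (Fin 2 ⊕ Fin 2) F) ^ 2 = 1
    simp [pow_two])) hne
  have hz : Subgroup.zpowers n1 = Subgroup.center (symplecticGroup (Fin 2) F) :=
    Subgroup.eq_of_le_of_card_ge (Subgroup.zpowers_le.2 hn)
      (by rw [Nat.card_zpowers, ho, ClassicalSp.card_center_sp (by norm_num), hc]; norm_num)
  rw [← hz, mem_zpowers_iff_mem_range_orderOf, ho] at hA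
  simp only [Finset.mem_image, Finset.mem_range] at hA
  obtain ⟨i, hi, rfl⟩ := hA
  interval_cases i
  · left; simp
  · right; simp [n1]

theorem mem_range_of_comm {A : symplecticGroup (Fin 2) F}
    (h : A.1 * (spHom ι tMod).1 = (spHom ι tMod).1 * A.1) :
    (∃ m, (spHom ι m).1 = A.1) ∨ (∃ m, (spHom ι m).1 = -A.1) := by
  rw [tMod_val, ← fromBlocks_toBlocks A.1, fromBlocks_multiply, fromBlocks_multiply, fromBlocks_inj] at h
  obtain ⟨h11, h12, h21, h22⟩ := h
  have e : ∀ {M N : Matrix (Fin 2) (Fin 2) F}, M = N → ∀ i j, M i j = N i j := fun h i j => by rw [h]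
  have hmem := A.2
  rw [← fromBlocks_toBlocks A.1, SymplecticGroup.fromBlocks_mem_iff] at hmem
  obtain ⟨-, m2, m3⟩ := hmem
  set P := A.1.toBlocks₁₁ with hP
  set Q := A.1.toBlocks₁₂ with hQ
  set R := A.1.toBlocks₂₁ with hR
  set S := A.1.toBlocks₂₂ with hS
  have r00 : R 0 0 = 0 := by
    have := e h11 0 0; simp [Matrix.mul_apply, Fin.sum_univ_two, vecMul, dotProduct] at this
    first | exact this | exact this.symm
  have r01 : R 0 1 = 0 := by
    have := e h11 0 1; simp [Matrix.mul_apply, Fin.sum_univ_two, vecMul, dotProduct] at this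
    first | exact this | exact this.symm
  have r10 : R 1 0 = 0 := by
    have := e h22 1 0; simp [Matrix.mul_apply, Fin.sum_univ_two, vecMul, dotProduct] at this
    first | exact this | exact this.symm
  have p10 : P 1 0 = 0 := by
    have := e h12 1 0; simp [Matrix.mul_apply, Fin.sum_univ_two, vecMul, dotProduct] at this
    first | exact this | exact this.symm
  have s01 : S 0 1 = 0 := by
    have := e h12 0 1; simp [Matrix.mul_apply, Fin.sum_univ_two, vecMul, dotProduct] at this
    first | exact this | exact this.symm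
  have ps : P 0 0 = S 0 0 := by
    have := e h12 0 0; simp [Matrix.mul_apply, Fin.sum_univ_two, vecMul, dotProduct] at this
    first | linear_combination this | linear_combination -this
  have m01 := e m2 0 1
  have n00 := e m3 0 0
  have n10 := e m3 1 0
  have n11 := e m3 1 1
  simp [Matrix.mul_apply, Fin.sum_univ_two, r00, r01, r10, p10, s01, ← ps] at m01 n00 n10 n11
  set l := P 0 0 with hl
  have hl2 : l * l = 1 := n00
  let g : SL₂ := ⟨!![ι.symm (l * P 1 1), ι.symm (l * Q 1 1); ι.symm (l * R 1 1), ι.symm (l * S 1 1)], by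
    refine ι.injective ?_
    rw [Matrix.det_fin_two]
    simp
    linear_combination n11 + (P 1 1 * S 1 1 - Q 1 1 * R 1 1) * hl2⟩
  let m : Mod := ⟨⟨![ι.symm (l * Q 1 0), ι.symm (l * S 1 0)], ι.symm (-(l * Q 0 0))⟩, g⟩
  have hm : (spHom ι m).1 = l • A.1 := by
    rw [spHom_val, ← fromBlocks_toBlocks A.1, fromBlocks_smul, lMat, nMat, fromBlocks_multiply,
      fromBlocks_inj, ← hP, ← hQ, ← hR, ← hS]
    refine ⟨?_, ?_, ?_, ?_⟩ <;> ext i j <;> fin_cases i <;> fin_cases j <;>
      simp [m, g, Matrix.mul_apply, Fin.sum_univ_two, r00, r01, r10, p10, s01, ← ps, ← hl, hl2] <;> grind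
  rcases mul_self_eq_one_iff.1 hl2 with h1 | h1
  · exact Or.inl ⟨m, by rw [hm, h1, one_smul]⟩
  · exact Or.inr ⟨m, by rw [hm, h1, neg_one_smul]⟩

/-- The model as a centralizer in PSp(4,3). -/
theorem exists_centralizer [Fintype F] (hF : Fintype.card F = 3) :
    ∃ (c : Cfsg.PSp 2 F) (S : Sylow 3 (Cfsg.PSp 2 F)), orderOf c = 3 ∧ c ∈ (S : Subgroup (Cfsg.PSp 2 F)) ∧
      c ∈ Subgroup.centralizer ((S : Subgroup (Cfsg.PSp 2 F)) : Set (Cfsg.PSp 2 F)) ∧
      Nonempty (Mod ≃* Subgroup.centralizer ({c} : Set (Cfsg.PSp 2 F))) := by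
  classical
  haveI : Fact (Nat.Prime 3) := ⟨Nat.prime_three⟩
  obtain ⟨ι⟩ : Nonempty (ZMod 3 ≃+* F) := ⟨ZMod.ringEquivOfPrime F Nat.prime_three hF⟩
  have hc : Nat.card F = 3 := by rw [Nat.card_eq_fintype_card, hF]
  have h2 : (2 : F) ≠ 0 := by
    rw [← map_ofNat ι 2]
    exact (map_ne_zero ι.toRingHom).2 two_ne_zero_three
  let Q : symplecticGroup (Fin 2) F →* Cfsg.PSp 2 F := QuotientGroup.mk' _
  let Ψ : Mod →* Cfsg.PSp 2 F := Q.comp (spHom ι)
  have hinj : Function.Injective Ψ := by
    rw [injective_iff_map_eq_one]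
    intro m hm
    have hcm : spHom ι m ∈ Subgroup.center (symplecticGroup (Fin 2) F) := (QuotientGroup.eq_one_iff _).1 hm
    refine spHom_injective ι (Eq.trans ?_ (map_one _).symm)
    refine Subtype.ext ((center_cases h2 hc hcm).resolve_right fun h => h2 ?_)
    have h00 := spHom_apply_00 ι m
    rw [h] at h00
    simp at h00
    linear_combination -h00
  set c := Ψ tMod with hcdef
  have hcent : ∀ m, Ψ m * c = c * Ψ m := fun m => by
    rw [hcdef, ← map_mul, ← map_mul, show m * tMod = tMod * m from Subgroup.mem_center_iff.1 (central_mem (-1)) m]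
  have hrange : Ψ.range = Subgroup.centralizer ({c} : Set (Cfsg.PSp 2 F)) := by
    refine le_antisymm ?_ fun y hy => ?_
    · rintro _ ⟨m, rfl⟩
      exact Subgroup.mem_centralizer_singleton_iff.2 (hcent m)
    obtain ⟨A, rfl⟩ := QuotientGroup.mk'_surjective _ y
    have hy' := Subgroup.mem_centralizer_singleton_iff.1 hy
    set T := spHom ι tMod with hT
    have hk : (T * A)⁻¹ * (A * T) ∈ Subgroup.center (symplecticGroup (Fin 2) F) := by
      rw [← QuotientGroup.eq_one_iff]
      show Q ((T * A)⁻¹ * (A * T)) = 1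
      rw [map_mul, map_inv, map_mul, map_mul]
      exact inv_mul_eq_one.2 hy'.symm
    set k := (T * A)⁻¹ * (A * T) with hkdef
    have hAT : A.1 * T.1 = T.1 * A.1 * k.1 := by
      have : A * T = T * A * k := by rw [hkdef]; group
      exact congrArg Subtype.val this
    have key : A.1 * T.1 = T.1 * A.1 := by
      rcases center_cases h2 hc hk with h | h
      · rw [hAT, h, mul_one]
      · exfalso
        rw [h, mul_neg, mul_one] at hAT
        have h1 : T.1 * (A.1 * (A⁻¹ : symplecticGroup (Fin 2) F).1) = -(A.1 * T.1 * (A⁻¹ : symplecticGroup (Fin 2) F).1) := by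
          rw [hAT, neg_mul, neg_neg, mul_assoc]
        have hAA : A.1 * (A⁻¹ : symplecticGroup (Fin 2) F).1 = 1 := congrArg Subtype.val (mul_inv_cancel A)
        have hAA' : (A⁻¹ : symplecticGroup (Fin 2) F).1 * A.1 = 1 := congrArg Subtype.val (inv_mul_cancel A)
        have htr := congrArg Matrix.trace h1
        rw [hAA, mul_one, Matrix.trace_neg, Matrix.trace_mul_comm (A.1 * T.1), ← mul_assoc, hAA', one_mul,
          hT, tMod_val] at htr
        simp [Matrix.trace, Fintype.sum_sum_type, Fin.sum_univ_two] at htr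
        have h8 : (2 : F) * 2 * 2 = 0 := by linear_combination htr
        simp [h2] at h8
    rcases mem_range_of_comm ι key with ⟨m, hm⟩ | ⟨m, hm⟩
    · exact ⟨m, congrArg Q (Subtype.ext hm)⟩
    · refine ⟨m, ?_⟩
      show Q (spHom ι m) = Q A
      rw [← inv_mul_eq_one, ← map_inv, ← map_mul]
      refine (QuotientGroup.eq_one_iff _).2 ?_
      have : spHom ι m = A * ⟨-1, SymplecticGroup.neg_mem (one_mem _)⟩ :=
        Subtype.ext (by rw [hm]; show -A.1 = A.1 * -1; simp)
      rw [this, _root_.mul_inv_rev, mul_assoc, inv_mul_cancel, mul_one]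
      refine Subgroup.inv_mem _ (Subgroup.mem_center_iff.2 fun g => Subtype.ext ?_)
      show g.1 * -1 = -1 * g.1
      simp
  have hcard : Nat.card Mod = 648 := by
    rw [SemidirectProduct.card, card_hs, show Nat.card SL₂ = 24 by
      rw [TwoByTwo.card_sl_two, Nat.card_zmod]; norm_num]
  haveI : Finite Mod := Finite.of_equiv _ SemidirectProduct.equivProd.symm
  obtain ⟨P⟩ : Nonempty (Sylow 3 Mod) := inferInstance
  have hPcard : Nat.card (P : Subgroup Mod) = 3 ^ 4 := by
    rw [P.card_eq_multiplicity, hcard, show 648 = 3 ^ 4 * 8 from rfl,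
      Nat.factorization_mul (by norm_num) (by norm_num)]
    rw [Nat.prime_three.factorization_pow]
    simp [Nat.factorization_eq_zero_of_not_dvd]
  have hS1 : IsPGroup 3 ((P : Subgroup Mod).map Ψ) := P.2.map _
  obtain ⟨S, hS⟩ := hS1.exists_le_sylow
  have hS1card : Nat.card ((P : Subgroup Mod).map Ψ) = 3 ^ 4 := by
    rw [Subgroup.card_map_of_injective hinj, hPcard]
  have hSeq : (P : Subgroup Mod).map Ψ = (S : Subgroup (Cfsg.PSp 2 F)) := by
    refine Subgroup.eq_of_le_of_card_ge hS ?_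
    have hsp : Nat.card (Cfsg.PSp 2 F) * 2 = 51840 := by
      have hh := Subgroup.card_eq_card_quotient_mul_card_subgroup (Subgroup.center (symplecticGroup (Fin 2) F))
      rw [ClassicalSp.card_center_sp (by norm_num), ClassicalSp.card_sp, hc] at hh
      simp [Finset.prod_range_succ] at hh
      rw [Nat.card_eq_fintype_card]; exact hh.symm
    obtain ⟨n, hn⟩ := IsPGroup.iff_card.1 S.2
    rw [hn, hS1card]
    refine Nat.pow_le_pow_right (by norm_num) ?_
    by_contra hlt
    have : 3 ^ 5 ∣ 51840 := hsp ▸ Dvd.dvd.mul_right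
      ((pow_dvd_pow 3 (show 5 ≤ n by omega)).trans (hn ▸ Subgroup.card_subgroup_dvd_card _)) 2
    norm_num at this
  have htP : tMod ∈ (P : Subgroup Mod) := by
    have hz : IsPGroup 3 (Subgroup.zpowers tMod) := IsPGroup.of_card (n := 1) (by
      rw [Nat.card_zpowers, pow_one]; exact orderOf_eq_prime tMod_cube tMod_ne)
    haveI : (Subgroup.zpowers tMod).Normal := by
      refine ⟨fun x hx g => ?_⟩
      have hxc : x ∈ Subgroup.center Mod :=
        (Subgroup.zpowers_le.2 (central_mem (-1)) : Subgroup.zpowers tMod ≤ Subgroup.center Mod) hx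
      rwa [Subgroup.mem_center_iff.1 hxc g, mul_inv_cancel_right]
    exact P.3 (hz.to_sup_of_normal_left P.2) le_sup_right ▸ Subgroup.mem_sup_left (Subgroup.mem_zpowers _)
  refine ⟨c, S, ?_, hSeq ▸ ⟨_, htP, rfl⟩, ?_, ⟨(MonoidHom.ofInjective hinj).trans (MulEquiv.subgroupCongr hrange)⟩⟩
  · rw [hcdef, orderOf_injective Ψ hinj]; exact orderOf_eq_prime tMod_cube tMod_ne
  · rw [← hSeq, Subgroup.mem_centralizer_iff]
    rintro _ ⟨m, -, rfl⟩
    exact hcent m

end Cfsg.Agent.HeisSLThree
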